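import Cfsg.Agent.L0.Lin2
import Cfsg.Agent.L0.J4.Grp

/-! Generated: the affine action in degree 12. -/

set_option autoImplicit false
set_option maxRecDepth 100000

namespace Cfsg.Agent.L0.J4Aff

/-- the matrices of the letters -/
def M : List (List ℕ) := [[nat_lit 0x1, nat_lit 0x80, nat_lit 0x4, nat_lit 0x8, nat_lit 0x18, nat_lit 0x40, nat_lit 0x20, nat_lit 0x2, nat_lit 0x1e2, nat_lit 0x32e, nat_lit 0x5c0, nat_lit 0x800],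
  [nat_lit 0x2, nat_lit 0x4, nat_lit 0x1, nat_lit 0x68a, nat_lit 0x7a5, nat_lit 0x444, nat_lit 0x7f6, nat_lit 0x4c4, nat_lit 0x547, nat_lit 0x487, nat_lit 0x393, nat_lit 0x800],
  [nat_lit 0x4, nat_lit 0x1, nat_lit 0x2, nat_lit 0x55e, nat_lit 0x2d0, nat_lit 0x464, nat_lit 0x285, nat_lit 0xa0, nat_lit 0x125, nat_lit 0x750, nat_lit 0x2a7, nat_lit 0x800],
  [nat_lit 0x8, nat_lit 0x100, nat_lit 0x3a1, nat_lit 0x19, nat_lit 0x1, nat_lit 0x46b, nat_lit 0x793, nat_lit 0x767, nat_lit 0x302, nat_lit 0x2, nat_lit 0x26c, nat_lit 0x800],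
  [nat_lit 0x10, nat_lit 0x200, nat_lit 0x3a1, nat_lit 0x1, nat_lit 0x19, nat_lit 0x4ce, nat_lit 0x6c, nat_lit 0x7da, nat_lit 0x2, nat_lit 0x302, nat_lit 0x693, nat_lit 0x800],
  [nat_lit 0x20, nat_lit 0x400, nat_lit 0x4, nat_lit 0x782, nat_lit 0x542, nat_lit 0x7ce, nat_lit 0x1, nat_lit 0x78c, nat_lit 0x499, nat_lit 0x30f, nat_lit 0x394, nat_lit 0x800],
  [nat_lit 0x40, nat_lit 0x702, nat_lit 0x4, nat_lit 0x78e, nat_lit 0x30c, nat_lit 0x1, nat_lit 0x7a2, nat_lit 0x5c0, nat_lit 0xb2, nat_lit 0x27a, nat_lit 0x2, nat_lit 0x800],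
  [nat_lit 0x463, nat_lit 0x12d, nat_lit 0x7ee, nat_lit 0xbd, nat_lit 0x7cf, nat_lit 0x798, nat_lit 0x400, nat_lit 0x765, nat_lit 0x493, nat_lit 0x1f7, nat_lit 0x640, nat_lit 0x800],
  [nat_lit 0x768, nat_lit 0xfd, nat_lit 0x24b, nat_lit 0x482, nat_lit 0x546, nat_lit 0x77c, nat_lit 0xa8, nat_lit 0x393, nat_lit 0x6df, nat_lit 0x4e8, nat_lit 0x40, nat_lit 0x800],
  [nat_lit 0x10, nat_lit 0x55e, nat_lit 0x3b9, nat_lit 0x1, nat_lit 0x19, nat_lit 0x7df, nat_lit 0x733, nat_lit 0x4d3, nat_lit 0x444, nat_lit 0x744, nat_lit 0x68a, nat_lit 0x800],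
  [nat_lit 0x8, nat_lit 0x65e, nat_lit 0x3b9, nat_lit 0x19, nat_lit 0x1, nat_lit 0x77a, nat_lit 0xd4, nat_lit 0x46e, nat_lit 0x744, nat_lit 0x444, nat_lit 0x26d, nat_lit 0x800],
  [nat_lit 0x1, nat_lit 0x2, nat_lit 0x4, nat_lit 0x8, nat_lit 0x10, nat_lit 0x20, nat_lit 0x40, nat_lit 0x80, nat_lit 0x100, nat_lit 0x200, nat_lit 0x400, nat_lit 0x801],
  [nat_lit 0x1, nat_lit 0x2, nat_lit 0x4, nat_lit 0x8, nat_lit 0x10, nat_lit 0x20, nat_lit 0x40, nat_lit 0x80, nat_lit 0x100, nat_lit 0x200, nat_lit 0x400, nat_lit 0x801]]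

theorem ex : ∃ A : RAct (PG 13 J4H.R) (2 ^ 12), A.Tab (PG.gen 13 J4H.R) 13 (lT M) :=
  PG.exists_lin (by decide +kernel) ((allL_iff _ _).mp (by decide +kernel))

end Cfsg.Agent.L0.J4Aff
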