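import Cfsg.Agent.L0.J4O.Vs
import Cfsg.Agent.H9.OutM24
import Cfsg.Agent.H9.CodeRA

/-! Automorphisms of the maximal subgroup of J4. -/

set_option autoImplicit false
set_option maxRecDepth 100000

namespace Cfsg.Agent.L0.J4O

open Dce

/-- the action on 24 points, relabelled -/
noncomputable def T1 (c i : ℕ) : ℕ :=
  Nat.land (Nat.shiftRight (nat_lit 0x55a940c4289b8977a9ed0c248020872ad8e6ba2c5ce77ba88b5d291a516603d2975c480a5885595013463222e963195a05062886ab0a40b2ac79b1017bca0281b50545798ca070d36155ad918d223eb18d6274a6b319e945aeafb86d2a4a033a56b14a2d9cd295425109a57782d6a89e25940550d8c64e0440c65205cd854e23908678aac8d0c5018b78c5a082cc63a9c721d25839b284e5042ad77dc21335c373a643d910) (Nat.mul 5 (Nat.add (Nat.mul 11 c) i))) 31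

/-- words for three generators -/
def W9 : List (List ℕ) := [[0, 2, 0, 2, 3, 1, 5], [7, 7, 0, 2, 4, 0, 4, 0, 5, 7, 9, 2, 0, 1, 1, 8, 6, 0, 1, 6, 8, 0, 1, 7, 4, 0, 2, 8, 10, 3, 8, 4, 5, 9, 0, 2, 0, 2, 3, 1, 6, 2, 10, 1, 10, 6, 6, 3, 4, 1, 0, 1, 0, 6, 2, 10, 0, 9, 0, 6, 2, 8, 9, 6, 3, 5, 9, 4, 5, 1], [8, 6, 1, 3, 3, 2, 5, 7, 4, 1, 0, 1, 0, 6, 2, 10, 0, 1, 7, 4, 0, 4, 7, 6, 0, 5, 7, 5, 9, 4]]

theorem out1 (γ : MulAut H1) : ∃ c, ∀ a, γ a = c * a * c⁻¹ := by
  obtain ⟨A1, h1⟩ := exists_ract_PG (T := T1) (N := 24) (k := 11) (M := 2 ^ 5) (R := J40.R)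
    (by decide +kernel) (by decide +kernel) (by norm_num)
    fun c hc => allR0 (d := 5) (by decide +kernel) hc
  have h2 : A1.Tab (dG g1 W9) 3 H9.OutM24.T := fun i hi c hc => by
    rw [h1.derive (by decide +kernel) 3 i hi c hc]
    exact Nat.eq_of_beq_eq_true ((allL_iff _ _).mp ((allL_iff _ _).mp (by decide +kernel :
      allL (List.range 3) (fun i => allL (List.range 24) fun c =>
        Nat.beq (dT T1 W9 c i) (H9.OutM24.T c i)) = true) i (List.mem_range.mpr hi)) c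
      (List.mem_range.mpr hc))
  have h3 := H9.OutM24.out (H9.RA.Tab.ofRAct h2) J4G.card0.2
  obtain ⟨c, hc⟩ : γ ∈ Cfsg.Inn H1 := by
    rw [← QuotientGroup.eq_one_iff]
    exact (Nat.card_eq_one_iff_unique.mp h3).1.elim _ _
  exact ⟨c, fun a => by rw [← hc]; rfl⟩

theorem cent1 {y : H1} (hy : ∀ w ∈ [[0], [3], [5, 1, 5, 4, 1, 5, 1, 5, 1]], ev g1 w * y = y * ev g1 w) : y = 1 := by
  obtain ⟨A0, h0, hb, -⟩ := J4G.exists_act0
  exact h0.cent hb (by decide +kernel) hy (c := 0) (by norm_num) [0, 1, 1, 0, 2, 1]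
    [[], [1, 2, 0, 1], [2, 0], [0], [1, 2, 1, 1], [0, 1, 0, 1], [1, 0]] (by decide +kernel)

theorem norm1 (β : MulAut H) (h1 : ∀ d, β d ∈ V ↔ d ∈ V) :
    ∃ c, ∀ h, Sim (c * β h * c⁻¹) h := by
  let γ : H1 →* H1 := π.comp (β.toMonoidHom.comp ι)
  have hi : Function.Injective γ := (injective_iff_map_eq_one _).mpr fun a ha => by
    rw [← πι a]; exact π_eq_one.mpr ((h1 _).mp (π_eq_one.mp ha))
  obtain ⟨c, hc⟩ := out1 (MulEquiv.ofBijective γ ⟨hi, Finite.surjective_of_injective hi⟩)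
  refine ⟨(ι c)⁻¹, fun h => sim_of_π ?_⟩
  have h2 : π (β h) = π (β (ι (π h))) := by
    rw [← mul_inv_eq_one, ← map_inv, ← map_mul, ← map_inv, ← map_mul, π_eq_one, h1, ← sim_iff]
    exact sim_ιπ h
  have h3 : π (β (ι (π h))) = c * π h * c⁻¹ := hc (π h)
  simp [h2, h3, πι, mul_assoc]

/-- the inverse of `xy + 1` -/
def Mi : List ℕ := [1721, 1720, 1725, 472, 1419, 294, 199, 1597, 985, 1648, 1789]

theorem norm2 {s : H} (h : Sim s (g 0 * g 1)) : ∃ d ∈ V, d⁻¹ * s * d = g 0 * g 1 := by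
  have e := allR0 (f := fun n => an (Nat.blt (vm Mi n) 2048)
    (Nat.beq (Nat.xor (tr T [0, 1] (vm Mi n)) (vm Mi n)) n)) (d := 11) (by decide +kernel) (q_lt s)
  obtain ⟨e1, e2⟩ := an_true e
  have e1 : vm Mi (q s) < 2048 := by simpa [Nat.blt_eq] using e1
  have e2 : tr T [0, 1] (vm Mi (q s)) ^^^ vm Mi (q s) = q s := Nat.eq_of_beq_eq_true e2
  obtain ⟨d, hd, e3⟩ := exists_qV e1
  have e4 : g 0 * g 1 = ev g [0, 1] := by simp
  refine ⟨d, hd, Sim.ext ?_ ?_⟩
  · simpa using ((simV.mp (inv_mem hd)).mul h).mul (simV.mp hd)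
  · rw [q_conjV _ hd, e3, h _ e1, e4, hA.act_ev (by decide) (by omega), e2, Nat.xor_self,
      q_ev (by decide +kernel)]
    decide +kernel

/-- the cocycle -/
def DW : List ℕ := [11, 1, 11, 2]

theorem scan {s t : H} (hs : Sim s (g 0)) (ht : Sim t (g 1)) (h1 : s * t = g 0 * g 1)
    (h2 : s * s = 1) (h3 : t * t * t = 1) : s = g 0 ∨ s = ev g (0 :: DW) := by
  have n := q_lt s
  have m := q_lt t
  have x0 : ∀ c < 2048, A.act c s = T c 0 := fun c hc => by rw [hs c hc, hA 0 (by omega) c (by omega)]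
  have x1 : ∀ c < 2048, A.act c t = T c 1 := fun c hc => by rw [ht c hc, hA 1 (by omega) c (by omega)]
  have e0 : q (g 0) = 0 := by
    rw [← ev_singleton g, q_ev (by decide +kernel)]; decide +kernel
  have e1 : q (g 0 * g 1) = 0 := by
    rw [show g 0 * g 1 = ev g [0, 1] by simp, q_ev (by decide +kernel)]; decide +kernel
  have a1 : T (q s) 0 ^^^ q s = 0 := by rw [← x0 _ n, ← q_mul, h2, q_one]
  have a2 : q t = T (q s) 1 := by
    rw [← h1, q_mul, x1 _ n] at e1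
    exact (Nat.xor_eq_zero_iff.mp e1).symm
  have a3 : T (T (q t) 1 ^^^ q t) 1 ^^^ q t = 0 := by
    rw [← x1 _ m, ← q_mul, ← x1 _ (q_lt _), ← q_mul, h3, q_one]
  have e := allR0 (f := fun n => sel (Nat.beq (T n 0 ^^^ n) 0) (sel
    (Nat.beq (T (T (T n 1) 1 ^^^ T n 1) 1 ^^^ T n 1) 0) (memN n [0, 5]) true) true) (d := 11)
    (by decide +kernel) n
  rw [a2] at a3
  have e := memN_spec (sel_imp (sel_imp e (by rw [a1]; rfl)) (by rw [a3]; rfl))
  simp only [List.mem_cons, List.not_mem_nil, or_false] at e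
  rcases e with e | e
  · exact Or.inl (hs.ext (by rw [e, e0]))
  · refine Or.inr (Sim.ext (hs.trans ?_) ?_)
    · simpa using sim_ev (u := [0]) (w := 0 :: DW) (by decide +kernel)
    · rw [e, q_ev (by decide +kernel)]; decide +kernel

theorem fixV {β : H →* H} (hi : Function.Injective β) (hs : ∀ h, Sim (β h) h) :
    ∀ d ∈ V, β d = d := by
  have hV : ∀ d ∈ V, β d ∈ V := fun d hd => simV.mpr ((hs d).trans (simV.mp hd))
  have q1 : q (g 11) = 1 := by
    rw [← ev_singleton g, q_ev (by decide +kernel)]; decide +kernel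
  have key : ∀ w, lettersB 13 [w] = true → q (β ((ev g w)⁻¹ * g 11 * ev g w)) =
      tr T w (q (β (g 11))) ∧ q ((ev g w)⁻¹ * g 11 * ev g w) = tr T w 1 := fun w hw => by
    have := q_lt (β (g 11))
    rw [map_mul, map_mul, map_inv, q_conj (hV _ v_mem), q_conj v_mem, hs _ _ this, q1,
      hA.act_ev (lettersB_spec hw w (by simp)) (by omega),
      hA.act_ev (lettersB_spec hw w (by simp)) (by omega)]
    exact ⟨rfl, rfl⟩
  have k2 : ∀ w, lettersB 13 [w] = true → tr T w 1 = 1 →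
      Nat.beq (tr T w (q (β (g 11)))) (q (β (g 11))) = true := fun w hw e => by
    have := key w hw
    rw [q_inj (V_conj v_mem _) v_mem (by rw [this.2, e, q1])] at this
    rw [← this.1]; exact Nat.beq_refl _
  have e := allR0 (f := fun n => sel (Nat.beq (tr T [0] n) n) (sel (Nat.beq (tr T [2, 0, 1] n) n)
    (sel (Nat.beq (tr T [3, 0, 4] n) n) (memN n [0, 1]) true) true) true) (d := 11)
    (by decide +kernel) (q_lt (β (g 11)))
  have e := memN_spec (sel_imp (sel_imp (sel_imp e (k2 _ (by decide +kernel) (by decide +kernel)))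
    (k2 _ (by decide +kernel) (by decide +kernel))) (k2 _ (by decide +kernel) (by decide +kernel)))
  simp only [List.mem_cons, List.not_mem_nil, or_false] at e
  rcases e with e | e
  · have := hi ((q_inj (hV _ v_mem) (one_mem _) (by rw [e, q_one])).trans β.map_one.symm)
    rw [this, q_one] at q1
    exact absurd q1 (by norm_num)
  · refine fun d hd => V_le (K := β.eqLocus (MonoidHom.id _)) (fun i hi => ?_) hd
    have e1 := (allL_iff _ _).mp (by decide +kernel : allL (List.range 11) (fun i =>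
      lettersB 13 [nthW CW i] && Nat.beq (tr T (nthW CW i) 1) (2 ^ i)) = true) i
      (List.mem_range.mpr hi)
    rw [Bool.and_eq_true] at e1
    have := key _ e1.1
    rw [e, Nat.eq_of_beq_eq_true e1.2] at this
    rw [q_inj (V_conj v_mem _) (b_mem i) (by rw [this.2, q_b hi])] at this
    exact q_inj (hV _ (b_mem i)) (b_mem i) (this.1.trans this.2.symm)

theorem autH (β : MulAut H) (h1 : ∀ d, β d ∈ V ↔ d ∈ V) :
    ∃ c, (∀ d ∈ V, c * β d * c⁻¹ = d) ∧ c * β (g 0 * g 1) * c⁻¹ = g 0 * g 1 ∧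
      (c * β (g 0) * c⁻¹ = g 0 ∨ c * β (g 0) * c⁻¹ = ev g (0 :: DW)) := by
  obtain ⟨c, hc⟩ := norm1 β h1
  obtain ⟨d, hd, e⟩ := norm2 (hc (g 0 * g 1))
  let β' : MulAut H := MulAut.conj (d⁻¹ * c) * β
  have e0 : ∀ h, β' h = d⁻¹ * c * β h * (d⁻¹ * c)⁻¹ := fun _ => rfl
  have hs : ∀ h, Sim (β' h) h := fun h => by
    simpa [e0, mul_assoc] using ((simV.mp (inv_mem hd)).mul (hc h)).mul (simV.mp hd)
  have e1 : β' (g 0 * g 1) = g 0 * g 1 := by rw [e0]; refine Eq.trans ?_ e; group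
  refine ⟨d⁻¹ * c, fixV (β := β'.toMonoidHom) β'.injective hs, e1,
    scan (s := β' (g 0)) (t := β' (g 1)) (hs _) (hs _) (by rw [← map_mul, e1]) ?_ ?_⟩
  · rw [← map_mul, show g 0 * g 0 = 1 by simpa using PG.rel (k := 13) (R := J4H.R) (r := [0, 0]) (by decide), map_one]
  · rw [← map_mul, ← map_mul, show g 1 * g 1 * g 1 = 1 by
      simpa [mul_assoc] using PG.rel (k := 13) (R := J4H.R) (r := [1, 1, 1]) (by decide), map_one]

end Cfsg.Agent.L0.J4O
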