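import Cfsg.Agent.L0.Lin2

/-! General lemmas: pigeonhole, forests of points, centralisers. -/

set_option autoImplicit false

namespace Cfsg.Agent.L0

open Dce

theorem vm_zero (G : List ℕ) : vm G 0 = 0 := by simpa using vm_xor G 0 0

theorem vm_map (G L : List ℕ) : ∀ c, vm (L.map (vm G)) c = vm G (vm L c) := by
  induction L with
  | nil => intro c; simp [vm_nil, vm_zero]
  | cons r L ih =>
    intro c
    rw [List.map_cons, vm_cons, vm_cons, vm_xor, ih]
    cases c.testBit 0 <;> simp [vm_zero]

/-- no repeated entries -/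
noncomputable def ndB (l : List ℕ) : Bool :=
  List.rec (motive := fun _ => Bool) true
    (fun a t ih => an (allL t fun b => sel (Nat.beq a b) false true) ih) l

theorem ndB_spec {l : List ℕ} (h : ndB l = true) : l.Nodup := by
  induction l with
  | nil => simp
  | cons a t ih =>
    obtain ⟨h1, h2⟩ := an_true h
    refine List.nodup_cons.mpr ⟨fun hm => ?_, ih h2⟩
    have := (allL_iff _ _).mp h1 a hm
    rw [Nat.beq_refl] at this
    exact absurd this (by simp)

/-- membership -/
noncomputable def memN (a : ℕ) (l : List ℕ) : Bool :=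
  List.rec (motive := fun _ => Bool) false (fun b _ ih => sel (Nat.beq a b) true ih) l

theorem memN_spec {a : ℕ} {l : List ℕ} (h : memN a l = true) : a ∈ l := by
  induction l with
  | nil => exact absurd (show false = true from h) (by simp)
  | cons b t ih =>
    have e : sel (Nat.beq a b) true (memN a t) = true := h
    cases h1 : Nat.beq a b with
    | true => rw [Nat.eq_of_beq_eq_true h1]; simp
    | false => rw [h1] at e; exact List.mem_cons_of_mem _ (ih e)

theorem sel_imp {a b : Bool} (h : sel a b true = true) (ha : a = true) : b = true := by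
  subst ha; exact h

theorem pigeon {α : Type} {Q : List α} {F : α → ℕ} {O : List ℕ} (R : α → ℕ → Prop)
    (hn : (Q.map F).Nodup) (hl : O.length < Q.length) (h1 : ∀ a ∈ Q, ∃ n ∈ O, R a n)
    (h2 : ∀ a ∈ Q, ∀ b ∈ Q, ∀ n, R a n → R b n → F a = F b) : False := by
  classical
  choose! f hf1 hf2 using h1
  have h3 : (Q.map f).Nodup := by
    rw [List.Nodup, List.pairwise_map] at hn ⊢
    exact hn.imp_of_mem fun {a b} ha hb h e => h (h2 a ha b hb _ (hf2 a ha) (e ▸ hf2 b hb))
  have := (List.subperm_of_subset h3 fun n hn => by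
    obtain ⟨a, ha, rfl⟩ := List.mem_map.mp hn
    exact hf1 a ha).length_le
  rw [List.length_map] at this
  omega

/-- a submonoid of a finite group -/
def finSub {G : Type} [Group G] [Finite G] (S : Submonoid G) : Subgroup G :=
  { S with
    inv_mem' := fun {x} hx => Submonoid.powers_le.mpr hx
      ((isOfFinOrder_of_finite x).mem_powers_iff_mem_zpowers.mpr (inv_mem (Subgroup.mem_zpowers x))) }

/-- the point is a root or is moved closer to one -/
noncomputable def forB (T : ℕ → ℕ → ℕ) (S : List (List ℕ)) (info : ℕ → ℕ) (rt : List ℕ) (N c : ℕ) :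
    Bool :=
  sel (Nat.ble N c) true (sel (memN c rt) true
    (Nat.rec (motive := fun _ => Bool) false (fun e _ =>
      Nat.blt (Nat.shiftRight (info (tr T (nthW S (Nat.land e 7)) c)) 3) (Nat.shiftRight e 3))
      (Nat.succ (info c))))

namespace RAct
variable {G : Type} [Group G] {N : ℕ} {A : RAct G N} {g : ℕ → G} {k : ℕ} {T : ℕ → ℕ → ℕ}

theorem Tab.forest (h : A.Tab g k T) {S : List (List ℕ)} (hS : lettersB k S = true)
    {K : Subgroup G} (hK : ∀ w ∈ S, ev g w ∈ K) {info : ℕ → ℕ} {rt : List ℕ}
    (hc : ∀ c < N, forB T S info rt N c = true) : ∀ c < N, ∃ x ∈ K, A.act c x ∈ rt := by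
  have key : ∀ D, ∀ c < N, Nat.shiftRight (info c) 3 = D → ∃ x ∈ K, A.act c x ∈ rt := by
    intro D
    induction D using Nat.strong_induction_on with
    | _ D ih =>
      intro c hcN hD
      have e := hc c hcN
      unfold forB at e
      rw [CT.ble_false hcN, sel_false] at e
      cases h1 : memN c rt with
      | true => exact ⟨1, one_mem _, by rw [A.one hcN]; exact memN_spec h1⟩
      | false =>
        rw [h1, sel_false] at e
        have e1 : tr T (nthW S (Nat.land (info c) 7)) c = A.act c (dG g S (Nat.land (info c) 7)) :=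
          (h.derive hS _ _ (Nat.lt_succ_self _) c hcN).symm
        obtain ⟨x, hx, hxa⟩ := ih _ (by rw [← hD]; simpa [Nat.blt_eq] using e) _
          (e1 ▸ A.lt _ hcN) rfl
        exact ⟨_, mul_mem (dG_mem hK _) hx, by rw [A.mul _ _ hcN, ← e1]; exact hxa⟩
  exact fun c hc => key _ c hc rfl

theorem act_comm {x y : G} (h : x * y = y * x) {c : ℕ} (hc : c < N) (hx : A.act c x = c) :
    A.act (A.act c y) x = A.act c y := by
  rw [← A.mul _ _ hc, ← h, A.mul _ _ hc, hx]

/-- an element which commutes with enough words is trivial -/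
theorem Tab.cent (h : A.Tab g k T) {B : List ℕ} (hb : A.IsBase B) {S : List (List ℕ)}
    (hS : lettersB k S = true) {y : G} (hy : ∀ w ∈ S, ev g w * y = y * ev g w) {c : ℕ}
    (hc : c < N) (w : List ℕ) (W : List (List ℕ))
    (e : (allL (List.range N) (fun d => sel (Nat.beq (tr (dT T S) w d) d) (Nat.beq d c) true) &&
      Nat.beq (tr (dT T S) w c) c && eqL (W.map fun u => tr (dT T S) u c) B) = true) : y = 1 := by
  simp only [Bool.and_eq_true] at e
  have h1 : ∀ u, ev (dG g S) u * y = y * ev (dG g S) u := fun u =>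
    (Subgroup.mem_centralizer_singleton_iff.mp (ev_mem _ (Subgroup.centralizer {y}) fun _ _ =>
      dG_mem (fun w hw => Subgroup.mem_centralizer_singleton_iff.mpr (hy w hw)) _))
  have h2 : A.act c y = c := by
    have := act_comm (h1 w) hc (by rw [h.act_ev_derive hS _ hc]; exact Nat.eq_of_beq_eq_true e.1.2)
    rw [h.act_ev_derive hS _ (A.lt _ hc)] at this
    exact Nat.eq_of_beq_eq_true (sel_imp ((allL_iff _ _).mp e.1.1 _
      (List.mem_range.mpr (A.lt y hc))) (by rw [this]; exact Nat.beq_refl _))
  refine hb y fun b hb _ => ?_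
  rw [← eqL_eq e.2] at hb
  obtain ⟨u, -, rfl⟩ := List.mem_map.mp hb
  rw [← h.act_ev_derive hS _ hc]
  exact act_comm (h1 u).symm hc h2

end RAct

end Cfsg.Agent.L0
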