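import Cfsg.Agent.L0.J4O.SylD

/-! A Sylow subgroup of the maximal subgroup of J4. -/

set_option autoImplicit false
set_option maxRecDepth 100000

namespace Cfsg.Agent.L0.J4O

open Dce

/-- the generators -/
noncomputable def sg : ℕ → H := dG g SG

theorem hsg : A.Tab sg 4 (lT GG) := fun i hi => by
  have e := (allL_iff _ _).mp (by decide +kernel : allL (List.range 4) (fun i =>
    allL (List.range 12) fun t => Nat.beq (dT T SG (2 ^ t) i) (lT GG (2 ^ t) i)) = true) i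
    (List.mem_range.mpr hi)
  refine xor_ind (n := 12) (by rw [act0, lT, vm_zero]) (fun t ht => ?_) fun a ha b hb e1 e2 => ?_
  · rw [sg, hA.derive (by decide +kernel) 4 i hi _ (Nat.pow_lt_pow_right (by norm_num) ht : _ < 2 ^ 12)]
    exact Nat.eq_of_beq_eq_true ((allL_iff _ _).mp e t (List.mem_range.mpr ht))
  · rw [lin _ ha hb, e1, e2, lT, lT, lT, vm_xor]

/-- the Sylow subgroup -/
noncomputable def S0 : Subgroup H := V ⊔ genL sg (List.range 4)

theorem V_S0 {d : H} (hd : d ∈ V) : d ∈ S0 := Subgroup.mem_sup_left hd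

theorem sk_spec {j : ℕ} (hj : j < 1024) : (∀ c, vm (Lm j) c < 2048) ∧
    (∀ i < 4, ∃ j' < 1024, ∀ c, lT GG (vm (Lm j) c) i = vm (Lm j') c) ∧
    (j = 0 ∨ (Qv j).length = 9 ∧ (∀ n ∈ Qv j, n < 2048) ∧
      ((Qv j).map fun n => vm (Lm j) n ^^^ n).Nodup) ∧
    (∀ p ∈ UO, vm (Lm j) p.1 ∈ p.2) ∧
    ((∀ p ∈ UO, vm (Lm j) p.1 = p.1) → j = 0 ∨ j = 561) := by
  obtain ⟨h1, h⟩ := an_true (sk_all j hj)
  obtain ⟨h2, h⟩ := an_true h
  obtain ⟨h3, h⟩ := an_true h
  obtain ⟨h4, h5⟩ := an_true h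
  refine ⟨vm_lt (n := 11) fun r hr => by simpa [Nat.blt_eq] using (allL_iff _ _).mp h1 r hr,
    fun i hi => ?_, ?_, fun p hp => memN_spec ((allL_iff _ _).mp h4 p hp), fun h => ?_⟩
  · obtain ⟨e1, e2⟩ := an_true ((allL_iff _ _).mp h2 i (List.mem_range.mpr hi))
    exact ⟨_, by simpa [Nat.blt_eq] using e1, fun c => by rw [← eqL_eq e2, fm_eq, vm_map, lT]⟩
  · cases h0 : Nat.beq j 0 with
    | true => exact Or.inl (Nat.eq_of_beq_eq_true h0)
    | false =>
      rw [h0, sel_false] at h3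
      obtain ⟨e1, e3⟩ := an_true h3
      obtain ⟨e1, e2⟩ := an_true e1
      refine Or.inr ⟨Nat.eq_of_beq_eq_true e1,
        fun n hn => by simpa [Nat.blt_eq] using (allL_iff _ _).mp e2 n hn, ?_⟩
      have := ndB_spec e3
      rwa [fm_eq] at this
  · simpa using memN_spec (sel_imp h5 ((allL_iff _ _).mpr fun p hp => by
      rw [h p hp]; exact Nat.beq_refl _))

theorem Lm0 {c : ℕ} (hc : c < 2048) : vm (Lm 0) c = c :=
  Nat.eq_of_beq_eq_true (allR0 (f := fun c => Nat.beq (vm (Lm 0) c) c) (d := 11)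
    (by decide +kernel) hc)

theorem lin_S0 {s : H} (hs : s ∈ S0) : ∃ j < 1024, ∀ c < 2048, A.act c s = vm (Lm j) c := by
  let K : Subgroup H := finSub
    { carrier := {h | ∀ j < 1024, ∃ j' < 1024, ∀ c, A.act (vm (Lm j) c) h = vm (Lm j') c}
      one_mem' := fun j hj => ⟨j, hj, fun c => A.one (by have := (sk_spec hj).1 c; omega)⟩
      mul_mem' := fun {x y} hx hy j hj => by
        obtain ⟨j1, h1, e1⟩ := hx j hj
        obtain ⟨j2, h2, e2⟩ := hy j1 h1
        exact ⟨j2, h2, fun c => by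
          rw [A.mul _ _ (by have := (sk_spec hj).1 c; omega), e1, e2]⟩ }
  have : S0 ≤ K := sup_le (fun d hd j hj => ⟨j, hj, fun c => memV.mp hd _ ((sk_spec hj).1 c)⟩)
    (genL_le fun i hi j hj => by
      obtain ⟨j', h1, e⟩ := (sk_spec hj).2.1 i (List.mem_range.mp hi)
      exact ⟨j', h1, fun c => by
        rw [hsg i (List.mem_range.mp hi) _ (by have := (sk_spec hj).1 c; omega), e]⟩)
  obtain ⟨j, hj, e⟩ := this hs 0 (by omega)
  exact ⟨j, hj, fun c hc => by rw [← e, Lm0 hc]⟩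

theorem card_S0 : Nat.card S0 = 2 ^ 21 := by
  refine le_antisymm ?_ ?_
  · choose f hf1 hf2 using fun s : S0 => lin_S0 s.2
    have := Nat.card_le_card_of_injective (fun s : S0 =>
      ((⟨f s, hf1 s⟩, ⟨q s, q_lt s⟩) : Fin 1024 × Fin 2048)) fun s t e => by
        simp only [Prod.mk.injEq, Fin.mk.injEq] at e
        exact Subtype.ext (Sim.ext (fun c hc => by rw [hf2 s c hc, hf2 t c hc, e.1]) e.2)
    simpa using this
  · have hm : ∀ w, lettersB 4 [w] = true → ev sg w ∈ S0 := fun w hw => ev_mem _ _ fun i hi =>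
      Subgroup.mem_sup_right (mem_genL _ (List.mem_range.mpr (lettersB_spec hw w (by simp) i hi)))
    have l0 : A.Lev S0 [] 2048 (Finset.Ico 2048 4096) := ⟨by omega, fun c hc => by
      have hc := Finset.mem_Ico.mp hc
      have h2 := xh hc.1 hc.2
      obtain ⟨d, hd, e⟩ := exists_qV h2
      refine ⟨hc.2, d, ⟨V_S0 hd, by simp [RAct.fixL_nil]⟩, ?_⟩
      rw [← Nat.xor_xor_cancel_right c 2048, lin d (b := 2048) (by omega) (by omega),
        memV.mp hd _ h2, act_e, e, Nat.xor_xor_cancel_left]⟩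
    have l1 := hsg.lev_list (H := S0) (pre := [2048]) (by decide +kernel)
      (fun w hw => hm w (by revert w; decide +kernel)) (by decide +kernel) (by omega) o1
    have l2 := hsg.lev_list (H := S0) (pre := [2, 2048]) (by decide +kernel)
      (fun w hw => hm w (by revert w; decide +kernel)) (by decide +kernel) (by omega) o2
    obtain ⟨l, h1, h2⟩ := chK_cons ⟨l0, rfl⟩ (chK_cons l1 (chK_cons l2 chK_nil))
    refine le_trans (le_of_eq ?_) h1.prod_le_card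
    rw [h2, Nat.card_Ico]
    decide +kernel

theorem key {s : H} (hs : s ∈ S0) {O : List ℕ} (hO : O.length ≤ 8) (R : H → ℕ → Prop)
    (h1 : ∀ d ∈ V, ∃ n ∈ O, R d n)
    (h2 : ∀ d ∈ V, ∀ d' ∈ V, ∀ n, R d n → R d' n → d⁻¹ * s * d = d'⁻¹ * s * d') : s ∈ V := by
  obtain ⟨j, hj, e⟩ := lin_S0 hs
  rcases (sk_spec hj).2.2.1 with rfl | ⟨e1, e2, e3⟩
  · exact memV.mpr fun c hc => by rw [e c hc, Lm0 hc]
  · refine (pigeon (fun m n => ∃ d ∈ V, q d = m ∧ R d n) e3 (O := O) (by omega) (fun m hm => ?_)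
      ?_).elim
    · obtain ⟨d, hd, e4⟩ := exists_qV (e2 m hm)
      obtain ⟨n, hn, e5⟩ := h1 d hd
      exact ⟨n, hn, d, hd, e4, e5⟩
    · rintro _ ha _ hb n ⟨d, hd, rfl, e4⟩ ⟨d', hd', rfl, e5⟩
      have := congrArg q (h2 d hd d' hd' n e4 e5)
      rwa [q_conjV _ hd, q_conjV _ hd', Nat.xor_left_inj, e _ (q_lt _), e _ (q_lt _)] at this

section
variable {Γ : Type} [Group Γ] {φ : H →* Γ} (hφ : Function.Injective φ)

/-- the automorphism maps the Sylow subgroup into itself -/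
def St (φ : H →* Γ) (α : MulAut Γ) : Prop := ∀ s ∈ S0, ∃ t ∈ S0, φ t = α (φ s)

include hφ

theorem key2 {α : MulAut Γ} {d s : H} (hd : d ∈ V) (hs : s ∈ S0) (e : φ s = α (φ d))
    (h' : St φ α⁻¹) {O : List ℕ} (hO : O.length ≤ 8)
    (h : ∀ x ∈ V, ∀ t ∈ S0, φ t = α⁻¹ (φ x) → A.act (q d) t ∈ O) : s ∈ V := by
  refine key hs hO (fun x n => ∃ t, φ t = α⁻¹ (φ x) ∧ A.act (q d) t = n) (fun x hx => ?_) ?_
  · obtain ⟨t, ht, e1⟩ := h' x (V_S0 hx)
    exact ⟨_, h x hx t ht e1, t, e1, rfl⟩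
  · rintro x - y - n ⟨t, e1, e2⟩ ⟨u, e3, e4⟩
    have := congrArg (fun a => α (φ a)) (q_inj (V_conj hd t) (V_conj hd u)
      (by rw [q_conj hd, q_conj hd, e2, e4]))
    apply hφ
    simpa [e1, e3, e] using this

theorem c1 {α : MulAut Γ} (h' : St φ α⁻¹) {p : ℕ × List ℕ} (hp : p ∈ UO) {d s : H} (hd : d ∈ V)
    (hq : q d = p.1) (hs : s ∈ S0) (e : φ s = α (φ d)) : s ∈ V :=
  key2 hφ hd hs e h' (O := p.2) (by clear hq; revert p; decide +kernel) fun _ _ t ht _ => by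
    obtain ⟨j, hj, e1⟩ := lin_S0 ht
    rw [e1 _ (q_lt d), hq]
    exact (sk_spec hj).2.2.2.1 p hp

theorem c2 {α : MulAut Γ} (h : St φ α) (h' : St φ α⁻¹) {d s : H} (hd : d ∈ V) (hs : s ∈ S0)
    (e : φ s = α (φ d)) {c : ℕ} (hc : c < 2048) : A.act c s ∈ [c, vm (Lm 561) c] := by
  obtain ⟨j, hj, e1⟩ := lin_S0 hs
  rw [e1 c hc]
  rcases (sk_spec hj).2.2.2.2 (fun p hp => by
    obtain ⟨u, hu, e2⟩ := exists_qV (show p.1 < 2048 by revert p; decide +kernel)
    obtain ⟨t, ht, e3⟩ := h' u (V_S0 hu)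
    have h1 := c1 hφ (α := α⁻¹) (by simpa using h) hp hu e2 ht e3
    have h2 : s⁻¹ * u * s = u := by
      apply hφ
      have := congrArg (fun a => α (φ a)) (V_comm h1 hd)
      simp only [map_mul, e3, MulAut.apply_inv_self, ← e] at this
      simp [mul_assoc, this]
    rw [← e2, ← e1 _ (q_lt u), ← q_conj hu, h2]) with rfl | rfl
  · simp [Lm0 hc]
  · simp

theorem c3 {α : MulAut Γ} (h : St φ α) (h' : St φ α⁻¹) {d : H} (hd : d ∈ V) :
    ∃ s ∈ V, φ s = α (φ d) := by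
  obtain ⟨s, hs, e⟩ := h d (V_S0 hd)
  exact ⟨s, key2 hφ hd hs e h' (O := [q d, vm (Lm 561) (q d)]) (by simp) fun x hx t ht e1 =>
    c2 hφ h' (by simpa using h) hx ht e1 (q_lt d), e⟩

end

end Cfsg.Agent.L0.J4O
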