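import Cfsg.Agent.L0.J4O.ModD
import Cfsg.Agent.L0.J4O.Syl

/-! The maximal subgroup inside J4. -/

set_option autoImplicit false
set_option maxRecDepth 100000

namespace Cfsg.Agent.L0.J4O

open Dce Cfsg.Spor

instance : Finite J4 := J4G.finite

/-- the embedding -/
noncomputable def φ : H →* J4 := J4G.br2.choose
/-- the third generator -/
noncomputable def z : J4 := J4G.br2.choose_spec.choose
/-- the letters -/
noncomputable abbrev X : ℕ → J4 := XX 13 g φ z
/-- the action on 15180 points -/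
noncomputable def B : RAct H 15180 := J4ActN.ex.choose
/-- the linear action -/
noncomputable def C : RAct J4 (2 ^ 112) := J4Rep.ex.choose

theorem hB : B.Tab g 13 J4ActN.T := J4ActN.ex.choose_spec
theorem hC : C.Tab J4G.x 6 (lT J4Rep.M) := J4Rep.ex.choose_spec
theorem hx : ∀ i < 6, J4G.x i = ev X (J4G.s2 i) := J4G.br2.choose_spec.choose_spec.1
theorem hK : ∀ r ∈ J4G.K.map fun r => r.flatMap fun i => [i], ev X r = 1 :=
  J4G.br2.choose_spec.choose_spec.2

theorem ctx : CtxH J4FB.P J4G.exists_act.choose g :=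
  ctxH_of (R := J4H.R) J4G.exists_act.choose_spec.1 J4G.exists_act.choose_spec.2.1
    (fun _ => PG.rel) (by decide +kernel)

theorem ctxG : CtxG J4FB.P g φ z fun _ => 1 := ctxG_one ctx hK (by decide +kernel)

theorem xiv : ∀ a < 15, X (J4FB.P.iv a) = (X a)⁻¹ := ctx.xiv φ z

theorem gen (S : Subgroup J4) (h1 : ∀ a, φ a ∈ S) (h2 : z ∈ S) : S = ⊤ :=
  gen_of J4G.isPres.gen_top hx S h1 h2

/-- the representatives of the double cosets -/
noncomputable def w (i : ℕ) : J4 := ev X (J4FB.P.W i)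

theorem cover (γ : J4) : ∃ i < 7, ∃ a b, γ = φ a * w i * φ b := by
  obtain ⟨i, hi, a, b, e⟩ := (J4Clo.fin ctx ctxG hB cardH.le gen).2 γ
  exact ⟨i, by clear e; revert i; decide, a, b, e⟩

theorem w0 : w 0 = 1 := by rw [w, ctx.w0, ev_nil]
theorem w1 : w 1 = z := ctx.ww1

open J4Clo in
theorem stabK : ∀ x, B.act 0 x = 0 → x ∈ KK φ z :=
  have h := ctx
  have hv := J4FB.val h ctxG
  stab_le (A := J4G.exists_act.choose) (hB.lev_all (by decide +kernel) tk_all)
    (chK_cons (lev_treeK h.tab (kW_fix h hv hB (l := KS) (by decide +kernel)) (by decide +kernel) l0_all)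
    (chK_cons (lev_treeK h.tab (kW_fix h hv hB (l := KS) (by decide +kernel)) (by decide +kernel) l1_all)
    (chK_cons (lev_treeK h.tab (kW_fix h hv hB (l := KS) (by decide +kernel)) (by decide +kernel) l2_all)
    (chK_nil)))) (cardH.le.trans (by decide +kernel))

theorem X_ev {u : List ℕ} (hu : ∀ y ∈ u, y < 13) : ev X u = φ (ev g u) := ev_XX (P := J4FB.P) hu

theorem zz : z⁻¹ = z := inv_eq_of_mul_eq_one_right (by
  simpa [XX] using consB_spec xiv hK (w := [13, 13]) (by decide +kernel))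

theorem zrel {u v : List ℕ} {j : ℕ} (hj : j = 13 ∨ j = 14) (e : (lettersB 13 [u, v] &&
    consB 15 J4FB.P.iv (J4G.K.map fun r => r.flatMap fun i => [i])
      (13 :: u ++ j :: (v.map J4FB.P.iv).reverse)) = true) :
    z * φ (ev g u) * z⁻¹ = φ (ev g v) := by
  rw [Bool.and_eq_true] at e
  have hu := lettersB_spec e.1 u (by simp)
  have hv := lettersB_spec e.1 v (by simp)
  have := consB_spec xiv hK e.2
  rw [List.cons_append, ev_cons, ev_append, ev_cons,
    ev_inv_word xiv fun a ha => by have := hv a ha; omega, X_ev hu, X_ev hv,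
    show X j = z⁻¹ by rcases hj with rfl | rfl <;> simp [XX, zz], show X 13 = z by simp [XX]] at this
  rw [← mul_inv_eq_one, ← this]; group

theorem hTC : C.Tab X 15 TC := fun i hi c hc => by
  have e := List.all_eq_true.mp (by decide +kernel : (List.range 15).all (fun i =>
    ((E15 i).flatMap E15).all [0, 1, 2, 13, 14].contains && (E15 i).all (· < 15) &&
    nthW W15 i == ((E15 i).flatMap E15).map fun a => List.getD [0, 1, 4] a (if a = 13 then 2 else 5))
    = true) i (List.mem_range.mpr hi)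
  simp only [Bool.and_eq_true, List.all_eq_true, List.contains_iff_mem, decide_eq_true_eq,
    beq_iff_eq] at e
  have e1 : ((List.range 15).all fun i => consB 15 J4FB.P.iv
      (J4G.K.map fun r => r.flatMap fun i => [i]) (J4FB.P.iv i :: E15 i)) = true := by
    decide +kernel
  refine Eq.trans ?_ (hC.derive (W := W15) (by decide +kernel) 15 i hi c hc)
  rw [let_exp xiv hK hi (List.all_eq_true.mp e1 i (List.mem_range.mpr hi)),
    ← ev_exp xiv hK e1 e.1.2, dG, e.2, ev_map]
  congr 1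
  refine ev_congr fun a ha => ?_
  have := e.1.1 a ha
  simp only [List.mem_cons, List.not_mem_nil, or_false] at this
  have hx' := fun i hi => ((hx i hi).trans (ev_singleton _ _)).symm
  rcases this with rfl | rfl | rfl | rfl | rfl
  exacts [hx' 0 (by omega), hx' 1 (by omega), hx' 4 (by omega), hx' 2 (by omega), hx' 5 (by omega)]

theorem hTH : (C.comap φ).Tab g 13 TC := fun i hi c hc => by
  rw [← hTC i (by omega) c hc, show X i = φ (g i) from if_pos hi]; rfl

theorem U_spec {i : ℕ} (hi : i < 7) : U i < 2 ^ 112 ∧ C.act (U 0) (w i) = U i := by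
  have e := (allL_iff _ _).mp k2 i (List.mem_range.mpr hi)
  have e0 := (allL_iff _ _).mp k2 0 (by decide)
  simp only [Bool.and_eq_true, Nat.blt_eq, Nat.beq_eq] at e e0
  exact ⟨e.2, by rw [w, hTC.act_ev (lettersB_spec e.1.1 _ (by simp)) e0.2, e.1.2]⟩

theorem fix0 (h : H) : C.act (U 0) (φ h) = U 0 := by
  have : (C.comap φ).fixL [U 0] = ⊤ := PG.eq_top_of_gen_mem _ fun y hy => by
    simpa using hTH.mem_fixL (by decide +kernel) k1 [y]
      (List.mem_map.mpr ⟨y, List.mem_range.mpr hy, rfl⟩)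
  exact (this ▸ Subgroup.mem_top h : h ∈ (C.comap φ).fixL _) _ (by simp) (U_spec (by omega)).1

theorem fixU {i : ℕ} (hi : i < 7) {a b e y : H}
    (h : φ y = φ a * w i * φ b * φ e * (φ a * w i * φ b)⁻¹) :
    C.act (U i) (φ (b * e * b⁻¹)) = U i := by
  have h0 := (U_spec (i := 0) (by omega)).1
  have : w i * φ (b * e * b⁻¹) = φ (a⁻¹ * y * a) * w i := by simp [h, mul_assoc]
  rw [← (U_spec hi).2, ← C.mul _ _ h0, this, C.mul _ _ h0, fix0]

theorem fixJ {x : H} (h : B.act 0 x = 0) : C.act (U 1) (φ x) = U 1 := by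
  obtain ⟨y, hy⟩ := mem_KK.mp (stabK x h)
  simpa using fixU (i := 1) (a := 1) (b := 1) (e := x) (y := y) (by omega) (by simp [w1, hy])

theorem stabJ {x : H} (h : C.act (U 1) (φ x) = U 1) : B.act 0 x = 0 := by
  have h1 := (U_spec (i := 1) (by omega)).1
  obtain ⟨y, hy, e⟩ := hB.forest (K := B.fixL [0]) (by decide +kernel)
    (hB.mem_fixL (by decide +kernel) (by decide +kernel))
    (fun c hc => (an_true (fk_all c (by omega))).1) _ (B.lt x (by omega : 0 < 15180))
  have hy0 : B.act 0 y = 0 := hy 0 (by simp) (by omega)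
  obtain ⟨p, hp, e1⟩ := List.mem_map.mp (show _ ∈ RT.map Prod.fst from e)
  have e2 := (allL_iff _ _).mp k4 p hp
  simp only [Bool.and_eq_true, Bool.or_eq_true, Nat.beq_eq, Bool.not_eq_true'] at e2
  have hl := lettersB_spec e2.1.1 p.2 (by simp)
  rcases e2.2 with e3 | e3
  · exact B.act_inj y (B.lt _ (by omega)) (by omega) (by rw [← e1, e3, hy0])
  · have e4 : B.act 0 (x * y * (ev g p.2)⁻¹) = 0 := by
      rw [B.mul _ _ (by omega), B.mul _ _ (by omega), ← e1, ← e2.1.2, ← hB.act_ev hl (by omega),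
        B.act_inv _ (by omega)]
    have e5 := fixJ e4
    rw [map_mul, map_mul, C.mul _ _ h1, C.mul _ _ h1, h, fixJ hy0, map_inv] at e5
    have e6 : C.act (U 1) (φ (ev g p.2)) = _ := hTH.act_ev hl h1
    rw [← e6, ← e5, C.inv_act _ h1, e5, Nat.beq_refl] at e3
    exact absurd e3 (by simp)

theorem hφ : Function.Injective φ := (injective_iff_map_eq_one _).mpr fun x hx =>
  (J4OChB.ch hB cardH.le).1 x fun c _ hc => by
    obtain ⟨-, y, -, e⟩ := (hB.lev_all (by decide +kernel) J4Clo.tk_all).1.2 c (by simpa using hc)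
    have := stabJ (x := y⁻¹ * x * y) (by simpa [hx] using C.one (U_spec (i := 1) (by omega)).1)
    rw [B.mul _ _ (by omega), B.mul _ _ (by omega), B.act_inv_eq hc e, ← e] at this
    exact B.act_inj y (B.lt _ hc) hc this

theorem bw_mem (u : List ℕ) : ev b u ∈ V := ev_mem _ _ fun i _ => b_mem i

theorem actU {i : ℕ} (hi : i < 7) (u : List ℕ) :
    C.act (U i) (φ (ev b u)) = tr (dT TC BW) u (U i) :=
  hTH.act_ev_derive (by decide +kernel) u (U_spec hi).1

theorem ndU {i : ℕ} (hi : i < 7) : ((UW i).map fun w => tr (dT TC BW) w (U i)).Nodup :=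
  ndB_spec ((allL_iff _ _).mp k3 i (List.mem_range.mpr hi))

theorem fixH {γ : J4} (h : ∀ d ∈ V, γ * φ d * γ⁻¹ ∈ φ.range) : γ ∈ φ.range := by
  obtain ⟨i, hi, a, c, rfl⟩ := cover γ
  rcases Nat.eq_zero_or_pos i with rfl | h0
  · exact ⟨a * c, by simp [w0]⟩
  · refine (pigeon (fun _ _ => True) (ndU hi) (O := [0]) (by interval_cases i <;> decide)
      (fun _ _ => ⟨0, by simp⟩) fun u _ v _ _ _ _ => ?_).elim
    have : ∀ u, tr (dT TC BW) u (U i) = U i := fun u => by
      obtain ⟨y, hy⟩ := h _ (V_conj (bw_mem u) c)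
      simpa [mul_assoc, actU hi] using fixU hi hy
    rw [this, this]

theorem index_odd : ¬ 2 ∣ φ.range.index := by
  have hp : IsPGroup 2 (V.map φ) := fun ⟨_, d, hd, rfl⟩ => ⟨1, Subtype.ext (by
    simp [sq, ← map_mul, V_sq hd])⟩
  have h1 := hp.card_modEq_card_fixedPoints (J4 ⧸ φ.range)
  have h2 : MulAction.fixedPoints (V.map φ) (J4 ⧸ φ.range) = {((1 : J4) : J4 ⧸ φ.range)} := by
    ext x
    obtain ⟨γ, rfl⟩ := QuotientGroup.mk_surjective x
    rw [Set.mem_singleton_iff, QuotientGroup.eq, mul_one, MulAction.mem_fixedPoints]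
    refine ⟨fun h => fixH fun d hd => ?_, fun h ⟨_, d, hd, rfl⟩ => ?_⟩
    · have := QuotientGroup.eq.mp (h ⟨_, d⁻¹, inv_mem hd, rfl⟩)
      simpa [mul_assoc] using this
    · refine QuotientGroup.eq.mpr ?_
      simpa [mul_assoc] using mul_mem (mul_mem h (inv_mem ⟨d, rfl⟩)) (inv_mem h)
  rw [h2, Nat.card_coe_set_eq, Set.ncard_singleton] at h1
  intro h3
  have := (Nat.modEq_zero_iff_dvd.mpr h3).symm.trans h1
  exact absurd this (by decide)

end Cfsg.Agent.L0.J4O
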