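import Cfsg.Agent.L0.J4O.Mod

/-! Every automorphism of J4 is inner. -/

set_option autoImplicit false
set_option maxRecDepth 100000

namespace Cfsg.Agent.L0.J4O

open Dce Cfsg.Spor
open scoped Pointwise

theorem exists_St (α : MulAut J4) :
    ∃ γ, St φ (MulAut.conj γ * α) ∧ St φ (MulAut.conj γ * α)⁻¹ := by
  have h1 : Nat.card (S0.map φ) = 2 ^ 21 := by rw [Subgroup.card_map_of_injective hφ, card_S0]
  have h2 : Nat.card φ.range = 501397585920 := by
    rw [← cardH]; exact (Nat.card_congr (φ.ofInjective hφ).toEquiv).symm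
  have h3 : ¬ 2 ∣ (S0.map φ).index := by
    have a := (S0.map φ).index_mul_card
    rw [← φ.range.index_mul_card, h1, h2] at a
    have := index_odd
    omega
  let P := (IsPGroup.of_card h1).toSylow h3
  obtain ⟨γ, hγ⟩ := MulAction.exists_smul_eq J4 (α • P) P
  have h4 : (MulAut.conj γ * α) • S0.map φ = S0.map φ := by
    have := congrArg (fun Q : Sylow 2 J4 => (Q : Subgroup J4)) hγ
    rw [mul_smul]; exact this
  refine ⟨γ, fun s hs => ?_, fun s hs => ?_⟩
  · exact (h4 ▸ Subgroup.smul_mem_pointwise_smul _ _ _ (Subgroup.mem_map_of_mem φ hs) :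
      (MulAut.conj γ * α) • φ s ∈ S0.map φ)
  · exact Subgroup.mem_pointwise_smul_iff_inv_smul_mem.mp (h4.symm ▸ Subgroup.mem_map_of_mem φ hs)

theorem exists_β {α : MulAut J4} (h : St φ α) (h' : St φ α⁻¹) :
    ∃ β : MulAut H, (∀ x, φ (β x) = α (φ x)) ∧ ∀ d, β d ∈ V ↔ d ∈ V := by
  have h1 : ∀ x, α (φ x) ∈ φ.range := fun x => fixH fun d hd => by
    obtain ⟨s, hs, e⟩ := c3 hφ h' (by simpa using h) hd
    obtain ⟨t, -, e1⟩ := c3 hφ h h' (V_conj hs x⁻¹)
    exact ⟨t, by simp [e1, e]⟩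
  choose f hf using h1
  let β : H →* H := MonoidHom.mk' f fun a b => hφ (by simp [hf])
  have hi : Function.Injective β := fun a b e => hφ (α.injective (by rw [← hf, ← hf]; exact congrArg φ e))
  refine ⟨MulEquiv.ofBijective β ⟨hi, Finite.surjective_of_injective hi⟩, hf, fun d => ⟨fun hd => ?_, fun hd => ?_⟩⟩
  · obtain ⟨s, hs, e⟩ := c3 hφ h' (by simpa using h) hd
    rwa [← hφ (e.trans (show α⁻¹ (φ (f d)) = φ d by simp [hf]))]
  · obtain ⟨s, hs, e⟩ := c3 hφ h h' hd
    rwa [hφ (e.trans (hf d).symm)] at hs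

theorem giv : ∀ a < 13, g (J4FB.P.iv a) = (g a)⁻¹ := fun a ha => (ctx.ivk a ha).2

theorem β_ev {β : MulAut H} {δ : ℕ → List ℕ} (hV : ∀ d ∈ V, β d = d)
    (h01 : β (g 0 * g 1) = g 0 * g 1) (h0 : β (g 0) = ev g (δ 0))
    (e1 : ev g (δ 0 ++ δ 1) = ev g [0, 1]) (e2 : ev g (δ 1 ++ δ 2) = ev g [])
    (e3 : δ 11 = [11] ∧ δ 12 = [12]) {u : List ℕ} (hu : ∀ a ∈ u, a < 13) :
    β (ev g u) = ev g ((u.flatMap J4G.E).flatMap δ) := by
  have a1 : β (g 1) = ev g (δ 1) := by
    rw [map_mul, h0] at h01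
    simpa [← h01] using e1.symm
  have a2 : β (g 2) = ev g (δ 2) := by
    rw [show g 2 = (g 1)⁻¹ from giv 1 (by omega), map_inv, a1, inv_eq_iff_mul_eq_one, ← ev_append, e2,
      ev_nil]
  have a3 : g 12 ∈ V := (show g 12 = (g 11)⁻¹ from giv 11 (by omega)) ▸ inv_mem v_mem
  rw [ev_flatMap, ← ev_exp giv (K := J4H.R) (fun _ => PG.rel) (E := J4G.E) (by decide +kernel) hu,
    map_ev]
  refine ev_congr fun a ha => ?_
  obtain ⟨i, hi, ha⟩ := List.mem_flatMap.mp ha
  have : ∀ i < 13, ∀ a ∈ J4G.E i, a ∈ [0, 1, 2, 11, 12] := by decide +kernel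
  have := this i (hu i hi) a ha
  simp only [List.mem_cons, List.not_mem_nil, or_false] at this
  rcases this with rfl | rfl | rfl | rfl | rfl
  exacts [h0, a1, a2, by simp [e3.1, hV _ v_mem], by simp [e3.2, hV _ a3]]

theorem eq_ev {u v : List ℕ} (e : (simB u v && lettersB 13 [u] && lettersB 13 [v] &&
    Nat.beq (tr T u 2048) (tr T v 2048)) = true) : ev g u = ev g v := by
  simp only [Bool.and_eq_true, Nat.beq_eq] at e
  exact (sim_ev e.1.1.1).ext (by rw [q_ev e.1.1.2, q_ev e.1.2, e.2])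

/-- a conjugate of `v` -/
def v1 : List ℕ := [1, 3, 11, 4, 2]
/-- its conjugate under `z` -/
def v2 : List ℕ := [6, 0, 3, 11, 4, 0, 5, 5, 1, 5, 4, 1, 5, 1, 5, 1]

theorem z0 : z * φ (ev g [0]) * z⁻¹ = φ (ev g [0]) := zrel (.inr rfl) (by decide +kernel)
theorem z3 : z * φ (ev g [3]) * z⁻¹ = φ (ev g [3]) := zrel (.inr rfl) (by decide +kernel)
theorem z1 : z * φ (ev g v1) * z⁻¹ = φ (ev g v2) := zrel (.inl rfl) (by decide +kernel)

theorem mem_ev {u : List ℕ} (e : simB u [] = true) : ev g u ∈ V := simV.mpr (sim_ev e)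

theorem last {α : MulAut J4} {β : MulAut H} (hβ : ∀ x, φ (β x) = α (φ x)) (hV : ∀ d ∈ V, β d = d)
    (h01 : β (g 0 * g 1) = g 0 * g 1) (h0 : β (g 0) = g 0 ∨ β (g 0) = ev g (0 :: DW)) : α = 1 := by
  obtain ⟨i, hi, a, c, e⟩ := cover (α z)
  have key : ∀ x, B.act 0 x = 0 → C.act (U i) (φ (c * β x * c⁻¹)) = U i := fun x hx => by
    obtain ⟨y, hy⟩ := mem_KK.mp (stabK x hx)
    exact fixU hi (a := a) (y := β y) (by rw [← e, hβ, hβ, hy]; simp)
  by_cases i0 : i = 0
  · subst i0
    have h1 : z = φ (β.symm (a * c)) := α.injective (by rw [← hβ, e]; simp [w0])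
    have h2 := (U_spec (i := 1) (by omega)).2
    rw [w1, h1, fix0] at h2
    exact absurd h2 (by decide +kernel)
  by_cases i1 : i ≠ 1
  · have hl : ∀ n ∈ [0, 193, 334, 401], n < 15180 := by decide
    have hO : V ≤ B.keep {n | n ∈ [0, 193, 334, 401]} hl := V_le fun j hj n hn => by
      have : ∀ j < 11, ∀ n ∈ [0, 193, 334, 401],
          memN (dT J4ActN.T BW n j) [0, 193, 334, 401] = true := by decide +kernel
      rw [b, hB.derive (by decide +kernel) 11 j hj n (hl n hn)]
      exact memN_spec (this j hj n hn)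
    refine (pigeon (fun u n => B.act 0 (c⁻¹ * ev b u * c) = n) (ndU hi) (O := [0, 193, 334, 401])
      (by interval_cases i <;> first | decide | omega)
      (fun u _ => ⟨_, hO (V_conj (bw_mem u) c) 0 (by simp), rfl⟩) fun u _ v _ n e1 e2 => ?_).elim
    have := key (c⁻¹ * ev b u * c * (c⁻¹ * ev b v * c)⁻¹)
      (by rw [B.mul _ _ (by omega), e1, ← e2, B.act_inv _ (by omega)])
    rw [hV _ (mul_mem (V_conj (bw_mem u) c) (inv_mem (V_conj (bw_mem v) c))),
      show c * (c⁻¹ * ev b u * c * (c⁻¹ * ev b v * c)⁻¹) * c⁻¹ = ev b u * (ev b v)⁻¹ by group,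
      map_mul, map_inv, C.mul _ _ (U_spec hi).1] at this
    rw [← actU hi, ← actU hi, ← C.inv_act (φ (ev b v)) (C.lt _ (U_spec hi).1), this]
  obtain rfl : i = 1 := not_not.mp i1
  rw [w1] at e
  have hp : B.act 0 c < 15180 := B.lt _ (by omega)
  have k2 : ∀ u, (lettersB 13 [u] && Nat.beq (tr J4ActN.T u 0) 0) = true →
      B.act (B.act 0 c) (β (ev g u)) = B.act 0 c := fun u hu => by
    simp only [Bool.and_eq_true, Nat.beq_eq] at hu
    have := stabJ (key _ (by rw [hB.act_ev (lettersB_spec hu.1 u (by simp)) (by omega), hu.2]))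
    rw [B.mul _ _ (by omega), B.mul _ _ (by omega)] at this
    rw [← B.inv_act c (B.lt (β (ev g u)) hp), this]
  have f0 := k2 [0] (by decide +kernel)
  have f3 := k2 [3] (by decide +kernel)
  have sc := (an_true (fk_all _ (by omega : B.act 0 c < 4 * 2 ^ 12))).2
  rw [CT.ble_false hp, sel_false] at sc
  have k3 : ∀ d, B.act 0 c = B.act 0 d → ∃ y, α z = φ y * z * φ d := fun d hd => by
    obtain ⟨y, hy⟩ := mem_KK.mp (stabK (c * d⁻¹) (by
      rw [B.mul _ _ (by omega), hd, B.act_inv _ (by omega)]))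
    exact ⟨a * y, by simp [e, hy, mul_assoc]⟩
  have k4 : ∀ {x y}, z * φ x * z⁻¹ = φ y → α z * φ (β x) * (α z)⁻¹ = φ (β y) := fun h => by
    rw [hβ, hβ, ← h]; simp
  rcases h0 with h0 | h0
  · have hid : ∀ x, β x = x := fun x => DFunLike.congr_fun (PG.hom_ext (f := β.toMonoidHom)
      (f' := MonoidHom.id _) fun y hy => by
        have := β_ev (δ := fun i => [i]) hV h01 (by simpa using h0) rfl
          (by simpa using PG.rel (k := 13) (R := J4H.R) (r := [1, 2]) (by decide)) ⟨rfl, rfl⟩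
          (u := [y]) (by simpa using hy)
        rw [List.flatMap_singleton', ev_exp giv (K := J4H.R) (fun _ => PG.rel) (by decide +kernel)
          (by simpa using hy)] at this
        simpa using this) x
    rw [hid, ev_singleton, hB _ (by omega) _ hp] at f0 f3
    have p0 := Nat.eq_of_beq_eq_true (sel_imp (sel_imp (an_true sc).1 (by rw [f0]; simp))
      (by rw [f3]; simp))
    obtain ⟨y, hy⟩ := k3 1 (by rw [p0, B.one (by omega)])
    have k5 : ∀ {x x'}, z * φ x * z⁻¹ = φ x' → x' * y = y * x' := fun {x x'} h => hφ (by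
      have := k4 h
      rw [hid, hid, hy] at this
      rw [map_mul, map_mul]
      nth_rewrite 1 [← this]
      rw [← h]; simp [mul_assoc])
    have y1 : y ∈ V := π_eq_one.mp (cent1 fun u hu => by
      simp only [List.mem_cons, List.not_mem_nil, or_false] at hu
      rcases hu with rfl | rfl | rfl
      · simpa [π_g, E1] using congrArg π (k5 z0)
      · simpa [π_g, E1] using congrArg π (k5 z3)
      · have := congrArg π (k5 z1)
        rwa [map_mul, map_mul, π_ev (by decide), ← ev_rd J4G.iv0] at this)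
    have k6 : ∀ {i}, i < 13 → ev g [i] * y = y * ev g [i] → Nat.beq (T (q y) i) (q y) = true :=
      fun {i} hi h => by
        rw [← hA i hi _ (by have := q_lt y; omega), ← q_conj y1, mul_assoc, ← ev_singleton g, ← h]
        simp
    have y2 : y = 1 := q_inj y1 (one_mem _) (by
      rw [q_one]
      exact Nat.eq_of_beq_eq_true (sel_imp (sel_imp (allR0 (f := fun n => sel (Nat.beq (T n 0) n)
        (sel (Nat.beq (T n 3) n) (Nat.beq n 0) true) true) (d := 11) (by decide +kernel) (q_lt y))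
        (k6 (by omega) (k5 z0))) (k6 (by omega) (k5 z3))))
    have := gen (α.toMonoidHom.eqLocus (MonoidHom.id _)) (fun x => by
      change α (φ x) = φ x
      rw [← hβ, hid]) (by change α z = z; simp [hy, y2])
    exact MulEquiv.ext fun x => (this ▸ Subgroup.mem_top x :
      x ∈ α.toMonoidHom.eqLocus (MonoidHom.id _))
  · have hd := fun u => β_ev (δ := DL) hV h01 h0 (eq_ev (by decide +kernel))
      (eq_ev (by decide +kernel)) ⟨rfl, rfl⟩ (u := u)
    rw [hd _ (by decide), hB.act_ev (by decide +kernel) hp] at f0 f3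
    have p0 := Nat.eq_of_beq_eq_true (sel_imp (sel_imp (an_true sc).2
      (Nat.beq_eq ▸ f0)) (Nat.beq_eq ▸ f3))
    obtain ⟨y, hy⟩ := k3 (ev g [4, 2, 11, 1, 3]) (by
      rw [p0, hB.act_ev (by decide) (by omega)]; decide +kernel)
    have m1 : ev g v1 ∈ V := mem_ev (by decide +kernel)
    have h1 : y * ev g v2 * y⁻¹ = β (ev g v2) := hφ (by
      rw [← k4 z1, hV _ m1, hy, map_mul, map_mul, ← z1, mul_assoc _ (φ _) (φ _), ← map_mul,
        V_comm (mem_ev (by decide +kernel)) m1]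
      simp [mul_assoc])
    have h2 : A.act 2304 (y * ev g v2 * y⁻¹) = 2304 := by
      rw [h1, hd _ (by decide), hA.act_ev (by decide +kernel) (by omega)]; decide +kernel
    have h3 : A.act 2304 y < 4096 := A.lt _ (by omega)
    rw [A.mul _ _ (by omega), A.mul _ _ (by omega)] at h2
    have h4 := A.inv_act y (A.lt (ev g v2) h3)
    rw [h2, hA.act_ev (by decide) h3] at h4
    have h5 := sel_imp (allR0 (f := fun n => sel (Nat.beq n (tr T v2 n)) (Nat.blt n 2048) true)
      (d := 12) (by decide +kernel) h3) (Nat.beq_eq ▸ h4)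
    have := high y (c := 2304) (by omega) (by omega)
    simp only [Nat.blt_eq] at h5
    omega

theorem inner (α : MulAut J4) : α ∈ Cfsg.Inn J4 := by
  obtain ⟨γ, h, h'⟩ := exists_St α
  obtain ⟨β, h1, h2⟩ := exists_β h h'
  obtain ⟨c, h3, h4, h5⟩ := autH β h2
  have := last (α := MulAut.conj (φ c) * (MulAut.conj γ * α)) (β := MulAut.conj c * β)
    (fun x => by simp [h1]) h3 h4 h5
  exact ⟨(φ c * γ)⁻¹, by rw [map_inv, inv_eq_iff_mul_eq_one, map_mul, mul_assoc, this]⟩

theorem card_out : Nat.card (Cfsg.Out J4) = 1 := by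
  rw [← Subgroup.index_eq_card, Subgroup.index_eq_one, eq_top_iff]
  exact fun α _ => inner α

end Cfsg.Agent.L0.J4O
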