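import Cfsg.Agent.L0.J4O.RepT

/-! Generated: relators in degree 112. -/

set_option autoImplicit false
set_option maxRecDepth 100000

namespace Cfsg.Agent.L0.J4Rep

theorem r4 : allL (List.range 112) (fixE M (nthW J4G.R 4)) = true := by decide +kernel

theorem r5 : allL (List.range 112) (fixE M (nthW J4G.R 5)) = true := by decide +kernel

theorem r6 : allL (List.range 112) (fixE M (nthW J4G.R 6)) = true := by decide +kernel

end Cfsg.Agent.L0.J4Rep
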