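import Cfsg.Agent.L0.J4O.RepC0
import Cfsg.Agent.L0.J4O.RepC1
import Cfsg.Agent.L0.J4O.RepC2
import Cfsg.Agent.L0.J4O.RepC3

/-! The representation of degree 112. -/

set_option autoImplicit false
set_option maxRecDepth 100000

namespace Cfsg.Agent.L0.J4Rep

theorem ex : ∃ C : RAct Cfsg.Spor.J4 (2 ^ 112), C.Tab J4G.x 6 (lT M) :=
  J4G.isPres.exists_lin (by decide +kernel) fun r hr => by
    obtain ⟨i, hi, rfl⟩ := List.getElem_of_mem hr
    have : ∀ i < 18, allL (List.range 112) (fixE M (nthW J4G.R i)) = true := (forall_lt_succ' (forall_lt_succ' (forall_lt_succ' (forall_lt_succ' (forall_lt_succ' (forall_lt_succ' (forall_lt_succ' (forall_lt_succ' (forall_lt_succ' (forall_lt_succ' (forall_lt_succ' (forall_lt_succ' (forall_lt_succ' (forall_lt_succ' (forall_lt_succ' (forall_lt_succ' (forall_lt_succ' (forall_lt_succ' forall_lt_zero' r0) r1) r2) r3) r4) r5) r6) r7) r8) r9) r10) r11) r12) r13) r14) r15) r16) r17)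
    rw [← List.getD_eq_getElem _ [] hi, ← nthW_eq]
    exact this i hi

end Cfsg.Agent.L0.J4Rep
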