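import Cfsg.Agent.L0.J4O.RepT

/-! Generated: relators in degree 112. -/

set_option autoImplicit false
set_option maxRecDepth 100000

namespace Cfsg.Agent.L0.J4Rep

theorem r0 : allL (List.range 112) (fixE M (nthW J4G.R 0)) = true := by decide +kernel

theorem r1 : allL (List.range 112) (fixE M (nthW J4G.R 1)) = true := by decide +kernel

theorem r2 : allL (List.range 112) (fixE M (nthW J4G.R 2)) = true := by decide +kernel

theorem r3 : allL (List.range 112) (fixE M (nthW J4G.R 3)) = true := by decide +kernel

theorem r7 : allL (List.range 112) (fixE M (nthW J4G.R 7)) = true := by decide +kernel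

theorem r9 : allL (List.range 112) (fixE M (nthW J4G.R 9)) = true := by decide +kernel

theorem r12 : allL (List.range 112) (fixE M (nthW J4G.R 12)) = true := by decide +kernel

theorem r13 : allL (List.range 112) (fixE M (nthW J4G.R 13)) = true := by decide +kernel

theorem r14 : allL (List.range 112) (fixE M (nthW J4G.R 14)) = true := by decide +kernel

theorem r15 : allL (List.range 112) (fixE M (nthW J4G.R 15)) = true := by decide +kernel

theorem r16 : allL (List.range 112) (fixE M (nthW J4G.R 16)) = true := by decide +kernel

theorem r17 : allL (List.range 112) (fixE M (nthW J4G.R 17)) = true := by decide +kernel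

end Cfsg.Agent.L0.J4Rep
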