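import Cfsg.Agent.L0.J4O.Gen
import Cfsg.Agent.L0.J4O.Ch2

/-! The normal subgroup of translations of the maximal subgroup of J4. -/

set_option autoImplicit false
set_option maxRecDepth 100000

namespace Cfsg.Agent.L0.J4O

open Dce

/-- the subgroup -/
abbrev H : Type := PG 13 J4H.R
/-- its letters -/
abbrev g : ℕ → H := PG.gen 13 J4H.R
/-- the complement -/
abbrev H1 : Type := PG 11 J40.R
/-- its letters -/
abbrev g1 : ℕ → H1 := PG.gen 11 J40.R
/-- the table of the affine action -/
noncomputable abbrev T : ℕ → ℕ → ℕ := lT J4Aff.M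

/-- the affine action -/
noncomputable def A : RAct H 4096 := J4Aff.ex.choose

theorem hA : A.Tab g 13 T := J4Aff.ex.choose_spec

theorem cardH : Nat.card H = 501397585920 := (J4OCh2.ch hA J4G.card_H.2).2

theorem allR0 {f : ℕ → Bool} {d : ℕ} (h : allR f d 0 = true) {i : ℕ} (hi : i < 2 ^ d) : f i = true :=
  allR_spec f d 0 h i (by simp) (by simpa using hi)

theorem lin (h : H) {a b : ℕ} (ha : a < 4096) (hb : b < 4096) :
    A.act (a ^^^ b) h = A.act a h ^^^ A.act b h := PG.act_xor (n := 12) hA h ha hb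

theorem act0 (h : H) : A.act 0 h = 0 := by simpa using lin h (a := 0) (b := 0) (by omega) (by omega)

theorem low (h : H) {c : ℕ} (hc : c < 2048) : A.act c h < 2048 := by
  have : A.keep {c | c < 2048} (fun c (hc : c < 2048) => by omega) = ⊤ :=
    PG.eq_top_of_gen_mem _ fun y hy c (hc : c < 2048) => by
      rw [hA y hy c (by omega)]
      have := allR0 (f := fun c => allL (List.range 13) fun i => Nat.blt (T c i) 2048) (d := 11)
        (by decide +kernel) hc
      simpa [Nat.blt_eq] using (allL_iff _ _).mp this y (List.mem_range.mpr hy)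
  exact (this ▸ Subgroup.mem_top h : h ∈ A.keep _ _) c hc

theorem high (h : H) {c : ℕ} (h1 : 2048 ≤ c) (h2 : c < 4096) : 2048 ≤ A.act c h := by
  by_contra h3
  have := low h⁻¹ (not_le.mp h3)
  rw [A.act_inv _ h2] at this
  omega

theorem xl {a b : ℕ} (ha : a < 2048) (hb : b < 2048) : a ^^^ b < 2048 :=
  Nat.xor_lt_two_pow (n := 11) ha hb

theorem xh {c : ℕ} (h1 : 2048 ≤ c) (h2 : c < 4096) : c ^^^ 2048 < 2048 := by
  have := allR0 (f := fun c => sel (Nat.ble 2048 c) (Nat.blt (Nat.xor c 2048) 2048) true) (d := 12)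
    (by decide +kernel) h2
  simpa [Nat.blt_eq] using sel_imp this (Nat.ble_eq_true_of_le h1)

/-- the translation part -/
noncomputable def q (h : H) : ℕ := A.act 2048 h ^^^ 2048

theorem q_lt (h : H) : q h < 2048 := xh (high h le_rfl (by omega)) (A.lt _ (by omega))

theorem act_e (h : H) : A.act 2048 h = q h ^^^ 2048 := by rw [q, Nat.xor_xor_cancel_right]

theorem q_mul (a b : H) : q (a * b) = A.act (q a) b ^^^ q b := by
  rw [q, A.mul _ _ (by omega), act_e a, lin _ (by have := q_lt a; omega) (by omega),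
    Nat.xor_assoc]; rfl

theorem q_one : q 1 = 0 := by rw [q, A.one (by omega), Nat.xor_self]

theorem q_ev {w : List ℕ} (hw : lettersB 13 [w] = true) : q (ev g w) = tr T w 2048 ^^^ 2048 := by
  rw [q, hA.act_ev (lettersB_spec hw w (by simp)) (by omega)]

/-- the same linear part -/
def Sim (a b : H) : Prop := ∀ c < 2048, A.act c a = A.act c b

theorem Sim.refl (a : H) : Sim a a := fun _ _ => rfl
theorem Sim.symm {a b : H} (h : Sim a b) : Sim b a := fun c hc => (h c hc).symm
theorem Sim.trans {a b d : H} (h : Sim a b) (h' : Sim b d) : Sim a d :=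
  fun c hc => (h c hc).trans (h' c hc)

theorem Sim.mul {a b a' b' : H} (h : Sim a a') (h' : Sim b b') : Sim (a * b) (a' * b') :=
  fun c hc => by rw [A.mul _ _ (by omega), A.mul _ _ (by omega), h c hc, h' _ (low _ hc)]

theorem Sim.ext {a b : H} (h : Sim a b) (e : q a = q b) : a = b :=
  (J4OCh2.ch hA J4G.card_H.2).1.eq_of_act fun c _ hc => by
    by_cases h1 : c < 2048
    · exact h c h1
    · have h2 := xh (not_lt.mp h1) hc
      rw [← Nat.xor_xor_cancel_right c 2048, lin a (b := 2048) (by omega) (by omega),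
        lin b (b := 2048) (by omega) (by omega), h _ h2, act_e, act_e, e]

theorem sim_basis {a b : H} (h : ∀ i < 11, A.act (2 ^ i) a = A.act (2 ^ i) b) : Sim a b :=
  xor_ind (n := 11) (by rw [act0, act0]) h fun c hc d hd e1 e2 => by
    rw [lin _ (by omega) (by omega), lin _ (by omega) (by omega), e1, e2]

/-- two words with the same linear part -/
noncomputable def simB (u w : List ℕ) : Bool :=
  lettersB 13 [u, w] && allL (List.range 11) fun i => Nat.beq (tr T u (2 ^ i)) (tr T w (2 ^ i))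

theorem sim_ev {u w : List ℕ} (e : simB u w = true) : Sim (ev g u) (ev g w) := by
  simp only [simB, Bool.and_eq_true] at e
  refine sim_basis fun i hi => ?_
  have : 2 ^ i < 4096 := (Nat.pow_lt_pow_right (by norm_num) (by omega) : 2 ^ i < 2 ^ 12)
  rw [hA.act_ev (lettersB_spec e.1 u (by simp)) this, hA.act_ev (lettersB_spec e.1 w (by simp)) this]
  exact Nat.eq_of_beq_eq_true ((allL_iff _ _).mp e.2 i (List.mem_range.mpr hi))

/-- the translations -/
noncomputable def V : Subgroup H := A.fixL (List.range 2048)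

theorem memV {d : H} : d ∈ V ↔ ∀ c < 2048, A.act c d = c :=
  ⟨fun h c hc => h c (List.mem_range.mpr hc) (by omega), fun h c hc _ => h c (List.mem_range.mp hc)⟩

theorem simV {d : H} : d ∈ V ↔ Sim d 1 :=
  memV.trans (forall₂_congr fun c hc => by rw [A.one (by omega)])

theorem sim_iff {a b : H} : Sim a b ↔ a * b⁻¹ ∈ V := by
  rw [memV]
  refine forall₂_congr fun c hc => ?_
  rw [A.mul _ _ (by omega)]
  exact ⟨fun h => by rw [h, A.act_inv _ (by omega)], fun h => by
    rw [← A.inv_act b (A.lt a (by omega : c < 4096)), h]⟩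

theorem V_conj {d : H} (hd : d ∈ V) (h : H) : h⁻¹ * d * h ∈ V := memV.mpr fun c hc => by
  rw [A.mul _ _ (by omega), A.mul _ _ (by omega), memV.mp hd _ (low _ hc), A.inv_act _ (by omega)]

instance : V.Normal := ⟨fun d hd h => by simpa using V_conj hd h⁻¹⟩

theorem q_mulV (a : H) {d : H} (hd : d ∈ V) : q (a * d) = q a ^^^ q d := by
  rw [q_mul, memV.mp hd _ (q_lt a)]

theorem q_inj {a b : H} (ha : a ∈ V) (hb : b ∈ V) (e : q a = q b) : a = b :=
  ((simV.mp ha).trans (simV.mp hb).symm).ext e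

theorem q_conj {d : H} (hd : d ∈ V) (h : H) : q (h⁻¹ * d * h) = A.act (q d) h := by
  have h1 := q_mul h⁻¹ h
  rw [inv_mul_cancel, q_one] at h1
  have h2 := q_lt h⁻¹
  have h3 := q_lt d
  rw [q_mul, q_mulV _ hd, lin _ (by omega) (by omega), Nat.xor_right_comm, ← h1, Nat.zero_xor]

theorem V_comm {a b : H} (ha : a ∈ V) (hb : b ∈ V) : a * b = b * a :=
  q_inj (mul_mem ha hb) (mul_mem hb ha) (by rw [q_mulV _ ha, q_mulV _ hb, Nat.xor_comm])

theorem V_sq {a : H} (ha : a ∈ V) : a * a = 1 :=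
  q_inj (mul_mem ha ha) (one_mem _) (by rw [q_mulV _ ha, q_one, Nat.xor_self])

theorem V_inv {a : H} (ha : a ∈ V) : a⁻¹ = a := inv_eq_of_mul_eq_one_right (V_sq ha)

theorem q_conjV (s : H) {d : H} (hd : d ∈ V) : q (d⁻¹ * s * d) = A.act (q d) s ^^^ q d ^^^ q s := by
  rw [q_mulV _ hd, V_inv hd, q_mul, Nat.xor_right_comm]

theorem comm_of_fix {d h : H} (hd : d ∈ V) (e : A.act (q d) h = q d) : h⁻¹ * d * h = d :=
  q_inj (V_conj hd h) hd (by rw [q_conj hd, e])

/-- the conjugating words of a basis -/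
def CW : List (List ℕ) := [[], [1], [2], [3], [4], [5], [6], [1, 0], [1, 3], [1, 4], [1, 5]]

/-- words for a basis -/
def BW : List (List ℕ) := [[11], [2, 11, 1], [1, 11, 2], [4, 11, 3], [3, 11, 4], [6, 11, 5], [5, 11, 6], [0, 2, 11, 1, 0], [4, 2, 11, 1, 3], [3, 2, 11, 1, 4], [6, 2, 11, 1, 5]]

/-- a basis -/
noncomputable def b : ℕ → H := dG g BW

theorem b_mem (i : ℕ) : b i ∈ V := dG_mem (fun w hw => simV.mpr
  (sim_ev (w := []) ((allL_iff _ _).mp (by decide +kernel : allL BW (simB · []) = true) w hw))) i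

theorem q_b {i : ℕ} (hi : i < 11) : q (b i) = 2 ^ i := by
  rw [q, b, hA.derive (by decide +kernel) 11 i hi _ (by omega)]
  exact Nat.eq_of_beq_eq_true ((allL_iff _ _).mp (by decide +kernel : allL (List.range 11) (fun i =>
    Nat.beq (dT T BW 2048 i ^^^ 2048) (2 ^ i)) = true) i (List.mem_range.mpr hi))

theorem exists_q {K : Subgroup H} (hK : ∀ i < 11, b i ∈ K) : ∀ n < 2048, ∃ d ∈ V ⊓ K, q d = n :=
  xor_ind (n := 11) ⟨1, one_mem _, q_one⟩ (fun i hi => ⟨b i, ⟨b_mem i, hK i hi⟩, q_b hi⟩)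
    fun _ _ _ _ ⟨x, hx, e1⟩ ⟨y, hy, e2⟩ => ⟨x * y, mul_mem hx hy, by rw [q_mulV _ hy.1, e1, e2]⟩

theorem exists_qV {n : ℕ} (hn : n < 2048) : ∃ d ∈ V, q d = n := by
  obtain ⟨d, hd, e⟩ := exists_q (K := ⊤) (fun _ _ => trivial) n hn
  exact ⟨d, hd.1, e⟩

theorem V_le {K : Subgroup H} (hK : ∀ i < 11, b i ∈ K) : V ≤ K := fun d hd => by
  obtain ⟨d', hd', e⟩ := exists_q hK _ (q_lt d)
  rw [← q_inj hd'.1 hd e]; exact hd'.2

/-! ### the quotient -/

/-- delete the last two letters -/
def E1 (i : ℕ) : List ℕ := if i < 11 then [i] else []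

/-- the projection -/
noncomputable def π : H →* H1 := PG.lift (fun i => ev g1 (E1 i)) (by decide +kernel)
  (cons_ext J4G.iv0 (fun _ => PG.rel (R := J40.R)) E1 (by decide +kernel))

/-- the inclusion -/
noncomputable def ι : H1 →* H := PG.lift g (by decide +kernel)
  (rel_sub (R := J4H.R) (fun _ => PG.rel) (by decide +kernel))

theorem π_ev {w : List ℕ} (hw : ∀ y ∈ w, y < 13) : π (ev g w) = ev g1 (w.flatMap E1) := by
  rw [π, PG.lift_ev _ _ _ hw, ev_flatMap]

theorem π_g {i : ℕ} (hi : i < 13) : π (g i) = ev g1 (E1 i) := PG.lift_gen_apply _ _ _ hi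

theorem πι (a : H1) : π (ι a) = a := by
  have : π.comp ι = MonoidHom.id _ := PG.hom_ext fun y hy => by
    rw [MonoidHom.comp_apply, ι, PG.lift_gen_apply _ _ _ hy, π_g (by omega), E1, if_pos hy]
    simp
  exact DFunLike.congr_fun this a

theorem v_mem : g 11 ∈ V := by
  have := b_mem 0
  simpa [b, dG, nthW_eq, BW] using this

theorem sim_ιπ (h : H) : Sim h (ι (π h)) := by
  let S : Subgroup H := finSub
    { carrier := {h | Sim h (ι (π h))}
      one_mem' := by simpa using Sim.refl 1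
      mul_mem' := fun {x y} hx hy => by
        change Sim _ _
        rw [map_mul, map_mul]; exact Sim.mul hx hy }
  have : S = ⊤ := PG.eq_top_of_gen_mem S fun y hy => by
    change Sim _ _
    rw [π_g hy, E1]
    split_ifs with h1
    · rw [ev_singleton, ι, PG.lift_gen_apply _ _ _ h1]; exact Sim.refl _
    · rw [ev_nil, map_one, ← simV]
      obtain rfl | rfl : y = 11 ∨ y = 12 := by omega
      · exact v_mem
      · exact simV.mpr (by simpa using sim_ev (u := [12]) (w := []) (by decide +kernel))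
  exact (this ▸ Subgroup.mem_top h : h ∈ S)

theorem π_eq_one {d : H} : π d = 1 ↔ d ∈ V := by
  refine ⟨fun h => ?_, fun h => V_le (K := π.ker) (fun i hi => ?_) h⟩
  · have := sim_ιπ d
    rwa [h, map_one, ← simV] at this
  · have := (allL_iff _ _).mp (by decide +kernel : allL (List.range 11) (fun i =>
      lettersB 13 [nthW BW i] && consB 11 J4FA.P.iv [] ((nthW BW i).flatMap E1)) = true) i
      (List.mem_range.mpr hi)
    rw [Bool.and_eq_true] at this
    rw [MonoidHom.mem_ker, b, dG, π_ev (lettersB_spec this.1 _ (by simp))]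
    exact consB_spec J4G.iv0 (by simp) this.2

theorem sim_of_π {a b : H} (h : π a = π b) : Sim a b := by
  rw [sim_iff, ← π_eq_one, map_mul, map_inv, h, mul_inv_cancel]

end Cfsg.Agent.L0.J4O
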